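import Groth.Agent.Etbc.H205.AlgExt
import Groth.Agent.Etbc.H209.PrimFilt
import Groth.Agent.CurvesA.EtFieldTors
import Groth.Agent.CurvesA.FieldHZl47
import Groth.Agent.CurvesA.EtFieldGm
import Groth.Agent.Etcore.PullJoint
import Groth.Agent.Sga4h.TameFieldK2
import Groth.Agent.Sga4h.EtaleRes2

/-!
# Fields with surjective norms in degree `p` have `p`-cohomological dimension at most one

`cohDimLEAt_one_of_norm`: `K` of characteristic zero containing a primitive `p`-th root of unity; if for all finite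
`E / K` and all Galois `M / E` of degree `p` the norm `M → E` is surjective, then `cd_p(K) ≤ 1`.
-/

set_option autoImplicit false

universe u

open CategoryTheory CategoryTheory.Limits Opposite AlgebraicGeometry CategoryTheory.Abelian

namespace Groth.Agent.Etbc.H251.NormCd

open Groth.Agent.CurvesA Groth.Agent.CurvesA.EtFieldObj Groth.Agent.CurvesA.EtFieldDesc
open Groth.Agent.CurvesA.EtFieldTr Groth.Agent.CurvesA.EtFieldFin Groth.Agent.CurvesA.ExtMid

/-- Norms are surjective for all Galois extensions of degree `p` of finite extensions of `K`. -/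
def NormHyp (p : ℕ) (K : Type u) [Field K] : Prop :=
  ∀ (E M : Type u) [Field E] [Field M] [Algebra K E] [FiniteDimensional K E] [Algebra E M]
    [FiniteDimensional E M] [IsGalois E M], Module.finrank E M = p →
      Function.Surjective (Algebra.norm E : M → E)

theorem NormHyp.of_finite {p : ℕ} {K : Type u} [Field K] (h : NormHyp p K) (E : Type u) [Field E]
    [Algebra K E] [FiniteDimensional K E] : NormHyp p E := by
  intro E' M _ _ _ _ _ _ _ hp
  let _ : Algebra K E' := ((algebraMap E E').comp (algebraMap K E)).toAlgebra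
  have : IsScalarTower K E E' := IsScalarTower.of_algebraMap_eq fun _ => rfl
  have : FiniteDimensional K E' := FiniteDimensional.trans K E E'
  exact h E' M hp

variable {K : Type u} [Field K]

/-- Surjectivity of norms and Hilbert 90 along cyclic extensions of degree `p`. -/
def CycTrivAt (p : ℕ) (F : EtCoh.Ab (Spec (CommRingCat.of K))) : Prop :=
  ∀ (E M : Type u) [Field E] [Algebra K E] [FiniteDimensional K E] [Algebra.IsSeparable K E]
    [Field M] [Algebra K M] [FiniteDimensional K M] [Algebra.IsSeparable K M] [Algebra E M]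
    [IsScalarTower K E M] [IsGalois E M] (σ : M ≃ₐ[E] M) (_ : ∀ g, ∃ i : ℕ, g = σ ^ i)
    (_ : Module.finrank E M = p), NormSurj F E M σ ∧ H90 F E M σ

section Tower

variable (F : EtCoh.Ab (Spec (CommRingCat.of K)))

/-- Injectivity of restriction along Galois extensions of degree a power of `p`. -/
theorem tower_injective (p : ℕ) (hp : p.Prime) (hF : CycTrivAt p F) (q : ℕ) (hq : 1 ≤ q)
    (hlow : ∀ r : ℕ, 1 ≤ r → r < q → ∀ (L : Type u) [Field L] [Algebra K L]
      [FiniteDimensional K L] [Algebra.IsSeparable K L] (x : Ext (ZL K L) F r), x = 0)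
    (n : ℕ) :
    ∀ (E M : Type u) [Field E] [Algebra K E] [FiniteDimensional K E] [Algebra.IsSeparable K E]
      [Field M] [Algebra K M] [FiniteDimensional K M] [Algebra.IsSeparable K M] [Algebra E M]
      [IsScalarTower K E M] [IsGalois E M] (_ : Nat.card (M ≃ₐ[E] M) = p ^ n)
      (x : Ext (ZL K E) F q) (_ : ExtStep.res (Zm (can K E M)) F q x = 0), x = 0 := by
  induction n with
  | zero =>
    intro E M _ _ _ _ _ _ _ _ _ _ _ hcard x hx
    have : FiniteDimensional E M := Module.Finite.right K E M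
    have h1 : Module.finrank E M = 1 := by
      rw [← IsGalois.card_aut_eq_finrank, hcard, pow_zero]
    obtain ⟨t, ht⟩ := exists_transfer (K := K) (L := E) (L' := M) (M := M)
    have := ExtStep.nsmul_eq_zero_of_transfer _ t _ ht F q x hx
    rwa [h1, one_smul] at this
  | succ n ih =>
    intro E M _ _ _ _ _ _ _ _ _ _ _ hcard x hx
    have : FiniteDimensional E M := Module.Finite.right K E M
    obtain ⟨E', hgal, hcard', hfin, σ, hσ⟩ := GalStep.exists_central_field E M p hp n hcard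
    have : IsScalarTower K E E' := inferInstance
    have : IsScalarTower K E' M := IsScalarTower.of_algebraMap_eq fun r => by
      rw [IsScalarTower.algebraMap_apply K E M, IsScalarTower.algebraMap_apply K E E']
      rfl
    have : FiniteDimensional K E' := FiniteDimensional.left K E' M
    have : Algebra.IsSeparable K E' := Algebra.isSeparable_tower_bot_of_isSeparable K E' M
    have : IsGalois E' M := inferInstance
    refine ih E E' hcard' x ?_
    obtain ⟨hn, h90⟩ := hF E' M σ hσ hfin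
    refine EtFieldCyc.cyclic_step σ hσ F q hq (fun r h1 h2 => hlow r h1 h2 M)
      (fun r h1 h2 => hlow r h1 h2 E') hn h90 _ ?_
    rw [ExtStep.res_res, ← Functor.map_comp, ← etMap_comp]
    exact hx

/-- The `p`-primary part of `Ext^q(Z_L, F)` vanishes for `q ≥ 1` if the groups in lower positive
degrees vanish. -/
theorem ext_eq_zero (p : ℕ) (hp : p.Prime) (hF : CycTrivAt p F) (q : ℕ) (hq : 1 ≤ q)
    (hlow : ∀ r : ℕ, 1 ≤ r → r < q → ∀ (L : Type u) [Field L] [Algebra K L]
      [FiniteDimensional K L] [Algebra.IsSeparable K L] (x : Ext (ZL K L) F r), x = 0)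
    (L : Type u) [Field L] [Algebra K L] [FiniteDimensional K L] [Algebra.IsSeparable K L]
    (x : Ext (ZL K L) F q) (k : ℕ) (hk : p ^ k • x = 0) : x = 0 := by
  obtain ⟨r, rfl⟩ : ∃ r, q = r + 1 := ⟨q - 1, by omega⟩
  obtain ⟨S, hS, hx⟩ := SiteZU.exists_sieve_comp_eq_zero x
  obtain ⟨N, _, _, _, _, f, hf⟩ := exists_galois_mem S hS
  obtain ⟨φ, rfl⟩ := exists_etMap_eq f
  let _ : Algebra L N := φ.toRingHom.toAlgebra
  have : IsScalarTower K L N := IsScalarTower.of_algebraMap_eq fun r => (φ.commutes r).symm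
  have : FiniteDimensional L N := Module.Finite.right K L N
  have : IsGalois L N := IsGalois.tower_top_of_isGalois K L N
  have hφ : ExtStep.res (Zm (can K L N)) F (r + 1) x = 0 := hx _ _ hf
  obtain ⟨L', ⟨n, hn⟩, hdvd⟩ := GalStep.exists_sylow_field L N p hp
  have : IsScalarTower K L L' := inferInstance
  have : IsScalarTower K L' N := IsScalarTower.of_algebraMap_eq fun r => by
    rw [IsScalarTower.algebraMap_apply K L N, IsScalarTower.algebraMap_apply K L L']
    rfl
  have : FiniteDimensional K L' := FiniteDimensional.left K L' N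
  have : Algebra.IsSeparable K L' := Algebra.isSeparable_tower_bot_of_isSeparable K L' N
  have : IsGalois L' N := inferInstance
  obtain ⟨t, ht⟩ := exists_transfer (K := K) (L := L) (L' := L') (M := N)
  have h1 : Module.finrank L L' • x = 0 := by
    refine ExtStep.nsmul_eq_zero_of_transfer _ t _ ht F _ x ?_
    refine tower_injective F p hp hF (r + 1) hq hlow n L' N hn _ ?_
    rw [ExtStep.res_res, ← Functor.map_comp, ← etMap_comp]
    exact hφ
  have h2 : (Module.finrank L L').Coprime (p ^ k) :=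
    (((Nat.Prime.coprime_iff_not_dvd hp).2 hdvd).symm).pow_right k
  have h4 := Nat.dvd_gcd (addOrderOf_dvd_of_nsmul_eq_zero h1) (addOrderOf_dvd_of_nsmul_eq_zero hk)
  rw [h2.gcd_eq_one] at h4
  exact AddMonoid.addOrderOf_eq_one_iff.1 (Nat.dvd_one.1 h4)

end Tower

/-- `G_m` satisfies `CycTrivAt p` if norms are surjective in degree `p`. -/
theorem cycTrivAt_Gm {p : ℕ} (hK : NormHyp p K) : CycTrivAt p (EtCoh.Gm (Spec (CommRingCat.of K))) := by
  intro E M _ _ _ _ _ _ _ _ _ _ _ σ hσ hp
  have : FiniteDimensional E M := Module.Finite.right K E M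
  have hcyc : ∀ x, x ∈ Subgroup.zpowers σ := fun g => by
    obtain ⟨i, rfl⟩ := hσ g
    exact Subgroup.npow_mem_zpowers σ i
  have hIsCyc : IsCyclic (M ≃ₐ[E] M) := ⟨⟨σ, hcyc⟩⟩
  have hnorm : ∀ a : M, ∏ i ∈ Finset.range (orderOf σ), (σ ^ i) a =
      algebraMap E M (Algebra.norm E a) := by
    intro a
    classical
    rw [Algebra.norm_eq_prod_automorphisms, ← IsCyclic.image_range_orderOf hcyc,
      Finset.prod_image]
    intro i hi j hj h
    exact pow_injOn_Iio_orderOf (Finset.mem_range.1 hi) (Finset.mem_range.1 hj) h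
  have hsum : ∀ a : Mˣ, ∑ i ∈ Finset.range (orderOf σ),
      (EtCoh.Gm (Spec (CommRingCat.of K))).obj.map (aut (K := K) (σ ^ i)).op
        (EtFieldGm.gm (Additive.ofMul a)) =
      EtFieldGm.gm (Additive.ofMul (∏ i ∈ Finset.range (orderOf σ),
        Units.map ((σ ^ i : M ≃ₐ[E] M) : M →* M) a)) := by
    intro a
    rw [ofMul_prod, map_sum]
    exact Finset.sum_congr rfl fun i _ => EtFieldGm.map_gm _ _
  constructor
  · intro b
    obtain ⟨b, rfl⟩ := EtFieldGm.gm_bijective.2 b
    obtain ⟨a, ha⟩ := hK E M hp (b.toMul : E)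
    have ha0 : a ≠ 0 := by
      rintro rfl
      rw [Algebra.norm_zero] at ha
      exact b.toMul.ne_zero ha.symm
    refine ⟨EtFieldGm.gm (Additive.ofMul (Units.mk0 a ha0)), ?_⟩
    rw [hsum, EtFieldGm.map_gm]
    congr 2
    ext
    rw [Units.coe_prod]
    exact (hnorm a).trans (congrArg (algebraMap E M) ha)
  · intro a ha
    obtain ⟨a, rfl⟩ := EtFieldGm.gm_bijective.2 a
    rw [← ofMul_toMul a, hsum] at ha
    have h1 := EtFieldGm.gm_bijective.1 (ha.trans (map_zero _).symm)
    have h2 : ∏ i ∈ Finset.range (orderOf σ), (σ ^ i) (a.toMul : M) = 1 := by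
      have h3 := congrArg (fun c : Additive Mˣ => (c.toMul : M)) h1
      simp only [toMul_ofMul, Units.coe_prod] at h3
      exact h3
    obtain ⟨y, hy0, hy⟩ := CycH90.exists_unit σ (isOfFinOrder_of_finite σ).orderOf_pos _ h2
    refine ⟨EtFieldGm.gm (Additive.ofMul (Units.mk0 y hy0)⁻¹), ?_⟩
    rw [EtFieldGm.map_gm, ← map_sub]
    congr 1
    apply Additive.toMul.injective
    rw [toMul_sub, toMul_ofMul, toMul_ofMul]
    ext
    have hσ0 : σ y ≠ 0 := by simpa using hy0
    change (a.toMul : M) = (Units.map (σ : M →* M) (Units.mk0 y hy0)⁻¹ / (Units.mk0 y hy0)⁻¹ : Mˣ)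
    rw [map_inv, div_inv_eq_mul, Units.val_mul, Units.val_mk0]
    have h3 : ((Units.map (σ : M →* M) (Units.mk0 y hy0))⁻¹ : Mˣ).val = (σ y)⁻¹ := by
      rw [Units.val_inv_eq_inv_val]
      rfl
    rw [h3, eq_comm, inv_mul_eq_iff_eq_mul₀ hσ0, mul_comm]
    exact hy.symm

/-- Hilbert 90 in the form `Ext¹(Z_L, G_m) = 0`. -/
theorem ext_one_Gm (L : Type u) [Field L] [Algebra K L] [FiniteDimensional K L]
    [Algebra.IsSeparable K L] (x : Ext (ZL K L) (EtCoh.Gm (Spec (CommRingCat.of K))) 1) : x = 0 := by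
  have h1 : Subsingleton (EtCoh.H (etObj K L).left
      ((EtShriek.restrAlong (etObj K L).hom).obj (EtCoh.Gm (Spec (CommRingCat.of K)))) 1) :=
    CohBasic.van_of_iso (Sga4h.EtaleRes2.GmRestr (etObj K L).hom).symm 1
      (Sga4h.TameFieldK2.subsingleton_H1_Gm L)
  have h2 : Subsingleton (Ext (ZL K L) (EtCoh.Gm (Spec (CommRingCat.of K))) 1) :=
    @Equiv.subsingleton _ _ (AcycEtale.extEquivH (etObj K L)
      (EtCoh.Gm (Spec (CommRingCat.of K))) 1).toEquiv h1
  exact Subsingleton.elim _ _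

/-- The `p`-primary torsion of `H²(Spec K, G_m)` vanishes. -/
theorem H2_Gm {p : ℕ} (hp : p.Prime) (hK : NormHyp p K)
    (y : EtCoh.H (Spec (CommRingCat.of K)) (EtCoh.Gm (Spec (CommRingCat.of K))) 2) (k : ℕ)
    (hy : p ^ k • y = 0) : y = 0 := by
  let e := EtFieldH.HEquiv (EtCoh.Gm (Spec (CommRingCat.of K))) 2
  apply e.injective
  rw [map_zero]
  refine ext_eq_zero _ p hp (cycTrivAt_Gm hK) 2 (by omega) ?_ K (e y) k ?_
  · intro r h1 h2 L _ _ _ _ x
    obtain rfl : r = 1 := by omega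
    exact ext_one_Gm L x
  · rw [← map_nsmul, hy, map_zero]

/-- `H²(Spec K, μ_p) = 0`. -/
theorem H2_mu {p : ℕ} (hp : p.Prime) (hK : NormHyp p K) (h0 : (p : K) ≠ 0) :
    Subsingleton (EtCoh.H (Spec (CommRingCat.of K)) (EtCoh.mu (Spec (CommRingCat.of K)) p) 2) := by
  have hn' : IsUnit (p : Γ(Spec (CommRingCat.of K), ⊤)) := by
    have h1 : IsUnit (p : K) := isUnit_iff_ne_zero.2 h0
    have h2 := h1.map (Scheme.ΓSpecIso (CommRingCat.of K)).inv.hom
    rwa [map_natCast] at h2
  have h1 := Sga4h.TameFieldK2.subsingleton_H1_Gm K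
  refine subsingleton_of_forall_eq 0 fun y => ?_
  obtain ⟨x, rfl⟩ := Dix.KummerLES.exists_δ_of_map_eq_zero hn' 1 y
    (H2_Gm hp hK _ 1 (by rw [pow_one]; exact Dix.KummerLES.nsmul_map_muι 2 y))
  rw [Subsingleton.elim x 0, map_zero]

/-- `H²(Spec K, ℤ/p) = 0` if `K` contains a primitive `p`-th root of unity. -/
theorem H2_const {p : ℕ} (hp : p.Prime) (hK : NormHyp p K) (h0 : (p : K) ≠ 0) (ζ : K)
    (hζ : IsPrimitiveRoot ζ p) :
    Subsingleton (EtCoh.H (Spec (CommRingCat.of K)) (EtCoh.const _ (ZMod p)) 2) := by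
  obtain ⟨e⟩ := MuConst.nonempty_iso_const_mu (X := Spec (CommRingCat.of K)) K p h0 ζ hζ (𝟙 _)
  have := H2_mu hp hK h0
  exact FieldHZl47.subsingleton_of_iso e.symm 2

/-- Sheaves killed by a power of `p`. -/
theorem van_of_killedBy {p : ℕ} (hp : p.Prime) (hK : NormHyp p K) (h0 : (p : K) ≠ 0) (ζ : K)
    (hζ : IsPrimitiveRoot ζ p) (F : EtCoh.Ab (Spec (CommRingCat.of K))) (k : ℕ)
    (hF : EtCoh.KilledBy (p ^ k) F) (L : Type u) [Field L] [Algebra K L] [FiniteDimensional K L]
    [Algebra.IsSeparable K L] : Van (ZL K L) 2 F := by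
  refine EtFieldTors.van_of_killedBy (p ^ k) (pow_ne_zero k hp.ne_zero) 2 ?_ F hF L
  intro ℓ hℓ hd E _ _ _ _
  obtain rfl : ℓ = p := (Nat.prime_dvd_prime_iff_eq hℓ.out hp).1 (hℓ.out.dvd_of_dvd_pow hd)
  refine H2_const hℓ.out (hK.of_finite E) ?_ (algebraMap K E ζ)
    (hζ.map_of_injective (algebraMap K E).injective)
  rw [← map_natCast (algebraMap K E)]
  exact (map_ne_zero _).2 h0

/-- A finite split `p`-primary torsion sheaf is killed by a power of `p`. -/
theorem exists_killedBy_pow {p : ℕ} {F : EtCoh.Ab (Spec (CommRingCat.of K))} (h : Fin' F)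
    (hF : _root_.Dix.IsPrimaryTorsion p F) : ∃ k : ℕ, EtCoh.KilledBy (p ^ k) F := by
  obtain ⟨N, _, _, _, _, h1, h2⟩ := h
  have hel : ∀ a : F.obj.obj (op (etObj K N)), ∃ k : ℕ, p ^ k • a = 0 := by
    intro a
    let x : (etObj K N).left := (⟨⊥, Ideal.isPrime_bot⟩ : PrimeSpectrum N)
    obtain ⟨V, g, ⟨v, -⟩, k, hk⟩ := hF (etObj K N) a x
    have : Nonempty V.left := ⟨v⟩
    refine ⟨k, map_injective F g ?_⟩
    rw [map_nsmul, hk, map_zero]
  obtain ⟨s, hs⟩ := h2
  choose k hk using hel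
  let m := s.sup k
  have hm : ∀ a : F.obj.obj (op (etObj K N)), p ^ m • a = 0 := by
    intro a
    have ha : a ∈ Submodule.span ℤ (s : Set (F.obj.obj (op (etObj K N)))) := by
      rw [hs]
      exact Submodule.mem_top
    induction ha using Submodule.span_induction with
    | mem x hx =>
      obtain ⟨c, hc⟩ := Nat.exists_eq_add_of_le (Finset.le_sup (f := k) hx)
      change p ^ (s.sup k) • x = 0
      rw [hc, pow_add, mul_comm, mul_smul, hk, smul_zero]
    | zero => rw [smul_zero]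
    | add x y _ _ hx hy => rw [smul_add, hx, hy, add_zero]
    | smul c x _ hx => rw [smul_comm, hx, smul_zero]
  refine ⟨m, ?_⟩
  intro U s
  refine sect_ext fun N' _ _ _ _ b => ?_
  obtain ⟨M, _, _, _, _, ⟨φ⟩, ⟨ψ⟩⟩ := exists_galois (K := K) N' N
  refine map_injective F (etMap φ) ?_
  obtain ⟨a, ha⟩ := h1 M (etMap ψ) (F.obj.map (etMap φ).op (F.obj.map b.op s))
  rw [map_nsmul, map_nsmul, ← ha, map_zero, map_zero, ← map_nsmul, hm, map_zero]

/-- `H²(Spec K, F) = 0` for `p`-primary torsion sheaves. -/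
theorem H2_of_isPrimaryTorsion {p : ℕ} (hp : p.Prime) (hK : NormHyp p K) (h0 : (p : K) ≠ 0) (ζ : K)
    (hζ : IsPrimitiveRoot ζ p) (F : EtCoh.Ab (Spec (CommRingCat.of K)))
    (hF : _root_.Dix.IsPrimaryTorsion p F) :
    Subsingleton (EtCoh.H (Spec (CommRingCat.of K)) F 2) := by
  refine EtFieldH.subsingleton_H F 2 fun x => ?_
  obtain ⟨F', i, x', hF', hi, rfl⟩ := exists_fin_sub (fin_ZL K) x
  obtain ⟨k, hk⟩ := exists_killedBy_pow hF' (H209.PrimFilt.isPrimaryTorsion_of_mono i hF)
  rw [van_of_killedBy hp hK h0 ζ hζ F' k hk K x', Ext.zero_comp]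

section Shift

/-- The unit of a surjective morphism is a monomorphism. -/
theorem mono_unit {X Y : Scheme.{u}} (f : Y ⟶ X) [Surjective f] (F : EtCoh.Ab X) :
    Mono ((EtCoh.pullPushAdj f).unit.app F) := by
  refine Etcore.PullJoint.mono_of_pull (ι := PUnit.{1}) (fun _ => f)
    (fun x => ⟨PUnit.unit, f.surjective x⟩) _ fun _ => ?_
  exact (SplitMono.mk _ ((EtCoh.pullPushAdj f).left_triangle_components F)).mono

/-- Dimension shifting: `p`-primary torsion sheaves embed into acyclic ones. -/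
theorem exists_acyclic (K : Type u) [Field K] {p : ℕ} (hp : p ≠ 0)
    (F : EtCoh.Ab (Spec (CommRingCat.of K))) (hF : _root_.Dix.IsPrimaryTorsion p F) :
    ∃ (G : EtCoh.Ab (Spec (CommRingCat.of K))) (i : F ⟶ G), Mono i ∧
      _root_.Dix.IsPrimaryTorsion p G ∧
      ∀ q : ℕ, 1 ≤ q → Subsingleton (EtCoh.H (Spec (CommRingCat.of K)) G q) := by
  let L := AlgebraicClosure K
  let f : Spec (CommRingCat.of L) ⟶ Spec (CommRingCat.of K) :=
    Spec.map (CommRingCat.ofHom (algebraMap K L))
  have hs : Surjective f := by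
    constructor
    intro x
    have : Subsingleton (Spec (CommRingCat.of K)) := inferInstanceAs (Subsingleton (PrimeSpectrum K))
    exact ⟨(⟨⊥, Ideal.isPrime_bot⟩ : PrimeSpectrum L), Subsingleton.elim _ _⟩
  have hpull := H211.PrimTors.isPrimaryTorsion_pull p f F hF
  refine ⟨_, (EtCoh.pullPushAdj f).unit.app F, mono_unit f F,
    H211.PrimTors.isPrimaryTorsion_push p f _ hpull, ?_⟩
  intro q hq
  obtain ⟨m, rfl⟩ : ∃ m, q = m + 1 := ⟨q - 1, by omega⟩
  refine EtpbcA.CdEtLeray.H_push_subsingleton_of_reverse f _ m ?_ ?_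
  · have h1 := EtpbcA.CdRel.cohDimLE_zero_of_isIntegral L L
    exact h1 _ (H211.PrimTors.isTorsion_of_isPrimaryTorsion (Nat.pos_of_ne_zero hp) hpull) _
      (Nat.succ_pos m)
  · intro a b _
    exact EtpbcA.CdEtLeray.H_subsingleton_of_isZero
      (EtpbcA.CdRel.relCohDimLE_zero K L _
        (H211.PrimTors.isTorsion_of_isPrimaryTorsion (Nat.pos_of_ne_zero hp) hpull)
        (b + 1) (Nat.succ_pos b)) a

/-- **Dimension shifting over a field**: vanishing in degree `d + 1` implies `cd_p ≤ d`. -/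
theorem cohDimLEAt_of_succ (K : Type u) [Field K] {p : ℕ} (hp : p ≠ 0) (d : ℕ)
    (h : ∀ F : EtCoh.Ab (Spec (CommRingCat.of K)), _root_.Dix.IsPrimaryTorsion p F →
      Subsingleton (EtCoh.H (Spec (CommRingCat.of K)) F (d + 1))) :
    _root_.Dix.CohDimLEAt (Spec (CommRingCat.of K)) p d := by
  have key : ∀ (n : ℕ) (F : EtCoh.Ab (Spec (CommRingCat.of K))), _root_.Dix.IsPrimaryTorsion p F →
      Subsingleton (EtCoh.H (Spec (CommRingCat.of K)) F (d + 1 + n)) := by
    intro n
    induction n with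
    | zero => exact h
    | succ n ih =>
      intro F hF
      obtain ⟨G, i, hi, hG, hv⟩ := exists_acyclic K hp F hF
      have hQ : _root_.Dix.IsPrimaryTorsion p (cokernel i) :=
        H209.PrimFilt.isPrimaryTorsion_of_epi (cokernel.π i) hG
      refine subsingleton_of_forall_eq 0 fun x => ?_
      refine Dix.ExtSeq.eq_zero_of_comp_eq_zero_of_mono (i := d + 1 + n) i x (ih _ hQ) ?_
      exact @Subsingleton.elim _ (hv (d + 1 + n + 1) (by omega)) _ _
  intro F hF q hq
  obtain ⟨n, rfl⟩ := Nat.exists_eq_add_of_le (Nat.succ_le_of_lt hq)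
  exact key n F hF

end Shift

/-- **Norms surjective in degree `p` imply `cd_p ≤ 1`.** -/
theorem cohDimLEAt_one_of_normHyp (K : Type u) [Field K] (p : ℕ) (hp : p.Prime) (h0 : (p : K) ≠ 0)
    (ζ : K) (hζ : IsPrimitiveRoot ζ p) (hK : NormHyp p K) :
    _root_.Dix.CohDimLEAt (Spec (CommRingCat.of K)) p 1 :=
  cohDimLEAt_of_succ K hp.ne_zero 1 fun F hF => H2_of_isPrimaryTorsion hp hK h0 ζ hζ F hF

theorem cohDimLEAt_one_of_norm (K : Type u) [Field K] [CharZero K] (p : ℕ) [Fact p.Prime]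
    (hprim : ∃ ζ : K, IsPrimitiveRoot ζ p)
    (h : ∀ (E M : Type u) [Field E] [Field M] [Algebra K E] [FiniteDimensional K E] [Algebra E M]
      [FiniteDimensional E M] [IsGalois E M], Module.finrank E M = p →
        Function.Surjective (Algebra.norm E : M → E)) :
    _root_.Dix.CohDimLEAt (Spec (CommRingCat.of K)) p 1 := by
  obtain ⟨ζ, hζ⟩ := hprim
  have hp : p.Prime := Fact.out
  exact cohDimLEAt_one_of_normHyp K p hp (Nat.cast_ne_zero.2 hp.ne_zero) ζ hζ h

end Groth.Agent.Etbc.H251.NormCd
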